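import Groth.Agent.Lib.PicInsep22.Pow

/-!
# `q`-th powers of functions descend along finite purely inseparable extensions
-/

set_option autoImplicit false
set_option linter.style.haveILetI false
set_option linter.unusedSectionVars false
set_option backward.isDefEq.respectTransparency false
set_option backward.isDefEq.respectTransparency.types false
set_option maxHeartbeats 1000000

universe u

open CategoryTheory CategoryTheory.Limits AlgebraicGeometry TopologicalSpace Opposite

namespace Groth.Agent.PicInsep22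

open Groth.Agent.CubeField Groth.Agent.RigidRel

theorem powDesc_field {k : Type u} [Field k] (p : ℕ) [Fact p.Prime] [CharP k p] (L : Type u) [Field L] [Algebra k L]
    (e : ℕ) (he : ∀ a : L, a ^ p ^ e ∈ (algebraMap k L).range) {X : Scheme.{u}} (f : X ⟶ Spec (CommRingCat.of k)) :
    PowDesc (pullback.fst f (Spec.map (CommRingCat.ofHom (algebraMap k L)))) (p ^ e) := by
  classical
  let g : CommRingCat.of k ⟶ CommRingCat.of L := CommRingCat.ofHom (algebraMap k L)
  let π := pullback.fst f (Spec.map g)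
  let η := pullback.snd f (Spec.map g)
  have hsq : IsPullback π η f (Spec.map g) := IsPullback.of_hasPullback _ _
  haveI : Flat f := inferInstance
  have haff : ∀ U : X.Opens, IsAffineOpen U →
      Function.Injective (π.app U) ∧ ∀ a, ∃ b, π.app U b = a ^ p ^ e := by
    intro U hU
    refine ⟨CubeField.app_injective g hsq hU (algebraMap k L).injective, fun a => ?_⟩
    obtain ⟨β, bb, hb⟩ := exists_coordinates g hsq
    obtain ⟨x, hx⟩ := (hb U hU).1 a
    rcases subsingleton_or_nontrivial Γ(pullback f (Spec.map g), π ⁻¹ᵁ U) with hs | hs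
    · exact ⟨0, Subsingleton.elim _ _⟩
    haveI : CharP Γ(pullback f (Spec.map g), π ⁻¹ᵁ U) p := by
      haveI : CharP L p := charP_of_injective_algebraMap (algebraMap k L).injective p
      exact charP_of_injective_ringHom (f := (ringMap η (π ⁻¹ᵁ U)).hom) (RingHom.injective _) p
    choose r hr using fun l => he (bb l)
    have hmap : ∀ c : k, ringMap η (π ⁻¹ᵁ U) (algebraMap k L c) = π.app U (ringMap f U c) := by
      exact fun c => (CubeField.app_ringMap g hsq.toCommSq U c).symm
    refine ⟨∑ l ∈ x.support, ringMap f U (r l) * x l ^ p ^ e, ?_⟩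
    rw [← hx, Finsupp.sum, map_sum, sum_pow_char_pow]
    refine Finset.sum_congr rfl fun l _ => ?_
    rw [map_mul, map_pow, ← hmap, hr, map_pow, mul_pow]
  have hinj : ∀ U : X.Opens, Function.Injective (π.app U) := by
    intro U a b hab
    refine TopCat.Sheaf.eq_of_locally_eq' X.sheaf (fun W : {W : X.Opens // IsAffineOpen W ∧ W ≤ U} => W.1) U
      (fun W => homOfLE W.2.2) (fun z hz => ?_) a b fun W => ?_
    · obtain ⟨W, hW, hzW, hWU⟩ := exists_isAffineOpen_mem_and_subset hz
      exact Opens.mem_iSup.2 ⟨⟨W, hW, hWU⟩, hzW⟩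
    · refine (haff W.1 W.2.1).1 ?_
      show π.app W.1 (CubeField.rs W.2.2 a) = π.app W.1 (CubeField.rs W.2.2 b)
      rw [CubeField.app_rs, CubeField.app_rs, hab]
  refine ⟨hinj, fun U a => ?_, fun V => ?_, ?_⟩
  · let ι := {W : X.Opens // IsAffineOpen W ∧ W ≤ U}
    choose b hb using fun W : ι => (haff W.1 W.2.1).2 (CubeField.rs (π.preimage_mono W.2.2) a)
    obtain ⟨c, hc, -⟩ := X.sheaf.existsUnique_gluing' (fun W : ι => W.1) U (fun W => homOfLE W.2.2) (fun z hz => by
        obtain ⟨W, hW, hzW, hWU⟩ := exists_isAffineOpen_mem_and_subset hz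
        exact Opens.mem_iSup.2 ⟨⟨W, hW, hWU⟩, hzW⟩) b fun W W' => by
      show CubeField.rs inf_le_left (b W) = CubeField.rs inf_le_right (b W')
      refine hinj _ ?_
      rw [CubeField.app_rs, CubeField.app_rs, hb, hb, map_pow, map_pow, CubeField.rs_rs, CubeField.rs_rs]
    refine ⟨c, ?_⟩
    refine TopCat.Sheaf.eq_of_locally_eq' (pullback f (Spec.map g)).sheaf (fun W : ι => π ⁻¹ᵁ W.1) (π ⁻¹ᵁ U)
      (fun W => homOfLE (π.preimage_mono W.2.2)) (fun z hz => ?_) _ _ fun W => ?_
    · obtain ⟨W, hW, hzW, hWU⟩ := exists_isAffineOpen_mem_and_subset (show π z ∈ U from hz)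
      exact Opens.mem_iSup.2 ⟨⟨W, hW, hWU⟩, hzW⟩
    · show CubeField.rs (π.preimage_mono W.2.2) (π.app U c) = CubeField.rs (π.preimage_mono W.2.2) (a ^ p ^ e)
      rw [← CubeField.app_rs π W.2.2, map_pow, ← hb W]
      exact congrArg (π.app W.1) (hc W)
  · haveI : IsAffineHom π := MorphismProperty.pullback_fst _ _ (inferInstanceAs (IsAffineHom (Spec.map g)))
    have hloc : ∀ z ∈ V, ∃ U : X.Opens, π ⁻¹ᵁ U ≤ V ∧ π z ∈ U := by
      intro z hz
      obtain ⟨W, hW, hzW, -⟩ := exists_isAffineOpen_mem_and_subset (U := (⊤ : X.Opens)) (x := π z) trivial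
      obtain ⟨a, haV, hza⟩ := (hW.preimage π).exists_basicOpen_le ⟨z, hz⟩ (show z ∈ π ⁻¹ᵁ W from hzW)
      obtain ⟨b, hb⟩ := (haff W hW).2 a
      have h : π ⁻¹ᵁ X.basicOpen b = (pullback f (Spec.map g)).basicOpen a := by
        rw [Scheme.preimage_basicOpen, hb, Scheme.basicOpen_pow _ _ (pow_pos (Fact.out : p.Prime).pos e)]
      refine ⟨X.basicOpen b, h.le.trans haV, ?_⟩
      show z ∈ π ⁻¹ᵁ X.basicOpen b
      rw [h]
      exact hza
    choose U hU hzU using hloc
    refine ⟨⨆ z : V, U z.1 z.2, le_antisymm ?_ fun z hz => ?_⟩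
    · rw [Scheme.Hom.preimage_iSup]
      exact iSup_le fun z => hU z.1 z.2
    · show π z ∈ ⨆ z : V, U z.1 z.2
      exact Opens.mem_iSup.2 ⟨⟨z, hz⟩, hzU z hz⟩
  · haveI : Surjective (Spec.map g) := ⟨fun x => ⟨IsLocalRing.closedPoint L, Subsingleton.elim (α := PrimeSpectrum k) _ _⟩⟩
    exact MorphismProperty.pullback_fst _ _ (inferInstance : Surjective (Spec.map g))

end Groth.Agent.PicInsep22
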