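import Groth.Agent.Lib.PicInsep22.Field
import Groth.Agent.Lib.PicGal22.Stage
import Groth.Agent.Lib.Abel10.AlgEquiv

/-!
# Prime-to-`p` torsion classes descend along purely inseparable extensions
-/

set_option autoImplicit false
set_option linter.style.haveILetI false
set_option linter.unusedSectionVars false
set_option backward.isDefEq.respectTransparency false
set_option backward.isDefEq.respectTransparency.types false
set_option maxHeartbeats 1000000

universe u

open CategoryTheory CategoryTheory.Limits AlgebraicGeometry Opposite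

noncomputable section

namespace Groth.Agent.PicInsep22

open Groth.Agent.Abel10 (pc pc_comp pc_id)
open Groth.Agent.PicGal22 (pt ptMap)

noncomputable local instance instLawInsep (Y : Scheme.{u}) : PicGrp.Law Y := M2.law Y

variable {k : Type u} [Field k] (p : ℕ) [Fact p.Prime] [CharP k p] {X : Scheme.{u}} (f : X ⟶ Spec (CommRingCat.of k))

include p in
theorem exists_exponent (L : Type u) [Field L] [Algebra k L] [FiniteDimensional k L] [IsPurelyInseparable k L] :
    ∃ e, ∀ a : L, a ^ p ^ e ∈ (algebraMap k L).range := by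
  haveI : ExpChar k p := ExpChar.prime (Fact.out : p.Prime)
  exact ⟨IsPurelyInseparable.exponent k L, IsPurelyInseparable.exponent_def' k p⟩

variable [CompactSpace X] [QuasiSeparatedSpace X] (K : Type u) [Field K] [Algebra k K] [IsPurelyInseparable k K]

/-- Over an intermediate field `q`-th powers descend. -/
theorem powDesc_stage (L : IntermediateField k K) [FiniteDimensional k L] :
    ∃ e, PowDesc (pullback.fst f (pt k L).hom) (p ^ e) := by
  haveI : IsPurelyInseparable k L := IsPurelyInseparable.tower_bot k L K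
  obtain ⟨e, he⟩ := exists_exponent (k := k) p L
  exact ⟨e, powDesc_field p L e he f⟩

/-- The kernel of the pullback is `p`-power torsion. -/
theorem pow_eq_one_of_pc_eq_one (z : PicLoc.PicSet X) (hz : pc (pullback.fst f (pt k K).hom) z = 1) :
    ∃ e, z ^ p ^ e = 1 := by
  have he := Descend.pbIsLimit (PicGal22.diag K) (PicGal22.str K) f (PicGal22.top K) (PicGal22.top_str K)
    (IsPullback.of_hasPullback f _) (PicGal22.topIsLimit (k := k) K)
  obtain ⟨i⟩ := (inferInstance : Nonempty (AlgColimH13.Idx k K)ᵒᵖ)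
  let P : (Descend.pbDiagram (PicGal22.diag K) (PicGal22.str K) f).obj i ⟶ X := pullback.fst f ((PicGal22.str K).app i)
  obtain ⟨j, φ, hj⟩ := LimShf14.exists_picSet_eq _ _ he i (pc P z) 1 (by
    show PicF.pullCl _ (PicF.pullCl P z.1) = _
    rw [PicDesc21.pullCl_pullCl, Descend.pbCone_fst]
    refine (congrArg Subtype.val hz).trans ?_
    rw [PicGrp.one_val, PicGrp.one_val]
    exact (PicDesc21.pullCl_structure _).symm)
  obtain ⟨L, hL, b, hb, -⟩ := PicGal22.exists_refine K f j
  haveI := hL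
  obtain ⟨e, H⟩ := powDesc_stage p f K L
  refine ⟨e, ?_⟩
  obtain ⟨M, hM, rfl⟩ := PicGrp.exists_eq_cls z
  have h := congrArg (PicF.pullCl b) hj
  have h' : PicF.pullCl (pullback.fst f (pt k L).hom) (PicF.cl M) = PicF.cl (Coh.structureModule _) := by
    refine Eq.trans ?_ (h.trans ?_)
    · show _ = PicF.pullCl b (PicF.pullCl _ (PicF.pullCl P (PicF.cl M)))
      rw [PicDesc21.pullCl_pullCl, PicDesc21.pullCl_pullCl, Category.assoc, Descend.pbMap_fst, hb]
    · rw [PicGrp.one_val, PicDesc21.pullCl_structure, PicDesc21.pullCl_structure]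
  obtain ⟨t⟩ := pow_trivial H hM ((PicGrp.cl_eq_cl_iff _ _).1 h').some
  refine Subtype.ext ?_
  rw [PicGrp.cls_pow_val, PicGrp.one_val]
  exact (PicGrp.cl_eq_cl_iff _ _).2 ⟨t⟩

/-- Torsion classes of order prime to `p` descend. -/
theorem exists_torsion_descend {n : ℕ} (hn : Nat.Coprime p n) (d : PicLoc.PicSet (PicF.XT f (pt k K)))
    (hd : d ^ n = 1) : ∃ c : PicLoc.PicSet X, c ^ n = 1 ∧ pc (pullback.fst f (pt k K).hom) c = d := by
  obtain ⟨L, hL, dL, hdL, hdLd⟩ := PicGal22.exists_stage K f d.1 d.2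
  haveI := hL
  obtain ⟨e, H⟩ := powDesc_stage p f K L
  obtain ⟨Lm, rfl, hLm⟩ := hdL
  obtain ⟨M, hM, ⟨t⟩⟩ := exists_pow_descend H hLm
  let z : PicLoc.PicSet X := PicGrp.cls M hM
  have h1 : pc (pullback.fst f (pt k L).hom) z = PicGrp.cls Lm hLm ^ p ^ e := by
    refine Subtype.ext ?_
    rw [PicGrp.cls_pow_val]
    exact (PicGrp.cl_eq_cl_iff _ _).2 ⟨t⟩
  have h2 : pc (pullback.fst f (pt k K).hom) z = d ^ p ^ e := by
    rw [← pc_comp (PicF.XTmap f (ptMap L.val)) (pullback.fst f (pt k L).hom) (pullback.lift_fst _ _ _ |>.trans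
      (Category.comp_id _)) z, h1, map_pow]
    exact congrArg (· ^ p ^ e) (Subtype.ext hdLd)
  obtain ⟨a, ha⟩ := pow_eq_one_of_pc_eq_one p f K (z ^ n) (by
    rw [map_pow, h2, ← pow_mul, mul_comm, pow_mul, hd, one_pow])
  rcases Nat.eq_zero_or_pos n with hn0 | hn0
  · exact absurd (by simpa [hn0] using hn : p = 1) (Fact.out : p.Prime).ne_one
  obtain ⟨m, hm⟩ : ∃ m, (p ^ e * p ^ a * m) % n = 1 % n := by
    obtain ⟨m, -, hm⟩ := Nat.exists_mul_mod_eq_of_coprime 1
      ((Nat.Coprime.pow_left e hn).mul_left (Nat.Coprime.pow_left a hn)) hn0.ne'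
    exact ⟨m, hm⟩
  refine ⟨z ^ (p ^ a * m), ?_, ?_⟩
  · rw [← pow_mul, mul_comm, ← mul_assoc, pow_mul, pow_mul, ha, one_pow]
  · rw [map_pow, h2, ← pow_mul, ← mul_assoc, pow_eq_pow_mod _ hd, hm, ← pow_eq_pow_mod _ hd, pow_one]

end Groth.Agent.PicInsep22
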