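import Groth.Agent.Lib.PicThick4.Main
import Groth.Agent.Lib.TorsThick.Basic
import Groth.Agent.Lib.CubeField.Field
import Groth.Prelude.Def_Pic
import Mathlib.FieldTheory.PurelyInseparable.Exponent

/-!
# Powers of invertible modules along morphisms on which `q`-th powers of functions descend
-/

set_option autoImplicit false
set_option linter.style.haveILetI false
set_option linter.unusedSectionVars false
set_option backward.isDefEq.respectTransparency false
set_option backward.isDefEq.respectTransparency.types false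
set_option maxHeartbeats 1000000

universe u

open CategoryTheory CategoryTheory.Limits AlgebraicGeometry TopologicalSpace Opposite

namespace Groth.Agent.PicInsep22

open Groth.Agent Groth.Agent.PicThick4

variable {X' X : Scheme.{u}}

/-- `q`-th powers of functions descend uniquely, and every open is a preimage. -/
structure PowDesc (π : X' ⟶ X) (q : ℕ) : Prop where
  inj : ∀ U : X.Opens, Function.Injective (π.app U)
  desc : ∀ (U : X.Opens) (a : Γ(X', π ⁻¹ᵁ U)), ∃ b, π.app U b = a ^ q
  opens : ∀ V : X'.Opens, ∃ U : X.Opens, π ⁻¹ᵁ U = V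
  surj : Surjective π

variable {π : X' ⟶ X} {q : ℕ}

theorem key (M : X.Modules) {U V : X.Opens} (h : V ≤ U) (r : Γ(M, U)) :
    M1.mres ((Scheme.Modules.pullback π).obj M) (π.preimage_mono h) (M2.pullSec π M r) =
      M2.pullSec π M (M1.mres M h r) :=
  (M1.app_mres ((Scheme.Modules.pullbackPushforwardAdjunction π).unit.app M) h r).symm

/-- The kernel of the pullback is killed by `q`. -/
theorem pow_trivial (H : PowDesc π q) {M : X.Modules} (hM : PicF.IsInvertible M)
    (ψ : (Scheme.Modules.pullback π).obj M ≅ Coh.structureModule X') :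
    Nonempty (CohB1.tensorPow M q ≅ Coh.structureModule X) := by
  classical
  have hex : ∀ y : X, ∃ (D : X.Opens) (e : Γ(M, D)), y ∈ D ∧ Twist.IsGen M D e := by
    intro y
    obtain ⟨U, e, hy, -, -, he⟩ := Amp.exists_isGenerator hM (V := ⊤) (x := y) trivial
    exact ⟨U, e, hy, he⟩
  choose D e hyD he using hex
  have hcov : ⨆ x, D x = ⊤ := top_le_iff.1 fun y _ => Opens.mem_iSup.2 ⟨y, hyD y⟩
  have hpw : ∀ x, Twist.IsGen (CohB1.tensorPow M q) (D x) (Amp.pw (e x) q) := fun x =>
    Twist.isGen_of_stalk fun _ hz => Amp.gen_pw hM hz (e x) q ((he x).stalk hz)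
  let a : ∀ x, Γ(X', π ⁻¹ᵁ D x) := fun x => ψ.hom.app (π ⁻¹ᵁ D x) (M2.pullSec π M (e x))
  have hau : ∀ x, IsUnit (a x) := fun x => TorsThick.isUnit_coord ψ ((he x).pullback π)
  choose A hA using fun x => (hau x).exists_right_inv
  choose b hb using fun x => H.desc (D x) (a x)
  choose c hc using fun x => H.desc (D x) (A x)
  have hbu : ∀ x, IsUnit (b x) := fun x => IsUnit.of_mul_eq_one (c x) (H.inj _ (by
    rw [map_mul, map_one, hb, hc, ← mul_pow, hA, one_pow]))
  refine ⟨(Twist.exists_iso_of_gen D hcov (fun x => Amp.pw (e x) q) (fun x => b x • M1.one (X := X) (D x)) hpw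
    (fun x => isGen_unit_smul _ _ (hbu x)) ?_).choose⟩
  intro x y V hx hy t ht
  obtain ⟨s, hs⟩ := (he x V hx).2 (M1.mres M hy (e y))
  have ht' : t = s ^ q := by
    refine (hpw x V hx).1 ?_
    refine ht.symm.trans ?_
    refine (Amp.res_pw _ (e y) q).trans ?_
    show Amp.pw (M1.mres M hy (e y)) q = _
    rw [← hs, Amp.pw_smul]
    exact congrArg (s ^ q • ·) (Amp.res_pw _ (e x) q).symm
  have h1 : M1.mres _ (π.preimage_mono hy) (M2.pullSec π M (e y)) =
      π.app V s • M1.mres _ (π.preimage_mono hx) (M2.pullSec π M (e x)) := by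
    rw [key M hy, key M hx, ← hs, M2.pullSec_smul]
  have h2 := congrArg (ψ.hom.app (π ⁻¹ᵁ V)) h1
  rw [Scheme.Modules.Hom.app_smul, M1.app_mres, M1.app_mres] at h2
  have h2' : rs (π.preimage_mono hy) (a y) = π.app V s * rs (π.preimage_mono hx) (a x) := h2
  have h3 : rs hy (b y) = t * rs hx (b x) := H.inj V (by
    rw [map_mul, app_rs, app_rs, hb, hb, map_pow, map_pow, ht', map_pow, h2', mul_pow])
  simp only [M1.mres_smul, M1.mres_one, ← mul_smul]
  exact congrArg (· • M1.one (X := X) V) h3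

/-- `q`-th powers of invertible modules descend. -/
theorem exists_pow_descend (H : PowDesc π q) {L : X'.Modules} (hL : PicF.IsInvertible L) :
    ∃ M : X.Modules, PicF.IsInvertible M ∧ Nonempty ((Scheme.Modules.pullback π).obj M ≅ CohB1.tensorPow L q) := by
  classical
  haveI := H.surj
  have hex : ∀ x : X', ∃ (D : X.Opens) (e : Γ(L, π ⁻¹ᵁ D)), π x ∈ D ∧ Twist.IsGen L (π ⁻¹ᵁ D) e := by
    intro x
    obtain ⟨U, e, hxU, -, -, he⟩ := Amp.exists_isGenerator hL (V := ⊤) (x := x) trivial
    obtain ⟨D, rfl⟩ := H.opens U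
    exact ⟨D, e, hxU, he⟩
  choose D e hxD he using hex
  have hcov : ⨆ x, D x = ⊤ := top_le_iff.1 fun y _ => by
    obtain ⟨x, rfl⟩ := π.surjective y
    exact Opens.mem_iSup.2 ⟨x, hxD x⟩
  have hcov' : ⨆ x, π ⁻¹ᵁ D x = ⊤ := by rw [← Scheme.Hom.preimage_iSup, hcov, Scheme.Hom.preimage_top]
  choose g hg using fun x y => (he x (π ⁻¹ᵁ (D x ⊓ D y)) (π.preimage_mono inf_le_left)).2
    (M1.mres L (π.preimage_mono inf_le_right) (e y))
  simp only at hg
  have hres : ∀ x y (T : X'.Opens) (hx : T ≤ π ⁻¹ᵁ D x) (hy : T ≤ π ⁻¹ᵁ D y),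
      rs (le_inf hx hy) (g x y) • M1.mres L hx (e x) = M1.mres L hy (e y) := fun x y T hx hy => by
    have h := congrArg (M1.mres L (le_inf hx hy : T ≤ π ⁻¹ᵁ (D x ⊓ D y))) (hg x y)
    erw [M1.mres_smul, M1.mres_mres, M1.mres_mres] at h
    exact h
  choose h hh using fun x y => H.desc (D x ⊓ D y) (g x y)
  let c : Coc X X' :=
    { V := D
      g := h
      refl := fun x => H.inj _ (by
        rw [hh, map_one]
        refine Eq.trans (congrArg (· ^ q) ?_) (one_pow q)
        refine (he x _ (π.preimage_mono inf_le_left)).1 ?_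
        show g x x • _ = (1 : Γ(X', _)) • _
        rw [one_smul]
        exact hg x x)
      comp := fun x y z U hx hy hz => H.inj U (by
        rw [map_mul, app_rs, app_rs, app_rs, hh, hh, hh, map_pow, map_pow, map_pow, ← mul_pow]
        refine congrArg (· ^ q) ?_
        refine (he x (π ⁻¹ᵁ U) (π.preimage_mono hx)).1 ?_
        show (_ * _) • M1.mres L (π.preimage_mono hx) (e x) = _ • M1.mres L (π.preimage_mono hx) (e x)
        rw [mul_comm, mul_smul]
        exact (congrArg _ (hres x y _ (π.preimage_mono hx) (π.preimage_mono hy))).trans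
          ((hres y z _ (π.preimage_mono hy) (π.preimage_mono hz)).trans
            (hres x z _ (π.preimage_mono hx) (π.preimage_mono hz)).symm)) }
  obtain ⟨M, hM, E, hE, hEt⟩ := exists_module_triv c hcov
  refine ⟨M, hM, ?_⟩
  let P := fun x => M2.pullSec π M (E x)
  have hP : ∀ x, Twist.IsGen _ (π ⁻¹ᵁ D x) (P x) := fun x => (hE x).pullback π
  have hpw : ∀ x, Twist.IsGen (CohB1.tensorPow L q) (π ⁻¹ᵁ D x) (Amp.pw (e x) q) := fun x =>
    Twist.isGen_of_stalk fun _ hz => Amp.gen_pw hL hz (e x) q ((he x).stalk hz)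
  refine ⟨(Twist.exists_iso_of_gen (fun x => π ⁻¹ᵁ D x) hcov' P (fun x => Amp.pw (e x) q) hP hpw ?_).choose⟩
  intro x y V hx hy t ht
  have h1 : M1.mres _ (π.preimage_mono (inf_le_right : D x ⊓ D y ≤ D y)) (P y) =
      g x y ^ q • M1.mres _ (π.preimage_mono (inf_le_left : D x ⊓ D y ≤ D x)) (P x) := by
    refine (key M inf_le_right _).trans ?_
    rw [hEt x y, M2.pullSec_smul]
    show π.app (D x ⊓ D y) (h x y) • _ = _
    rw [hh]
    exact congrArg (g x y ^ q • ·) (key M inf_le_left (E x)).symm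
  have h2 := congrArg (M1.mres _ (le_inf hx hy : V ≤ π ⁻¹ᵁ D x ⊓ π ⁻¹ᵁ D y)) h1
  erw [M1.mres_mres, M1.mres_smul, M1.mres_mres] at h2
  have h3 : t = rs (le_inf hx hy) (g x y ^ q) := (hP x V hx).1 (ht.symm.trans h2)
  rw [h3, map_pow]
  refine (Amp.res_pw _ (e y) q).trans ?_
  show Amp.pw (M1.mres L hy (e y)) q = _
  rw [← hres x y V hx hy, Amp.pw_smul]
  exact congrArg (_ • ·) (Amp.res_pw _ (e x) q).symm

end Groth.Agent.PicInsep22
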